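import Cfsg.Agent.H697.Alm.Defs
import Cfsg.Agent.H700.PRat
import Cfsg.Agent.Characters.GaloisIrr
import Cfsg.Agent.S0860
import Mathlib.RingTheory.ZMod.UnitsCyclic

/-!
# Almost `p`-rational characters and classes (task T17 of S4790, helper352)

* `card_fixed` : for `κ` prime to `|G|` the numbers of irreducible characters fixed by `χ ↦ (g ↦ χ (g ^ κ))` and of
  conjugacy classes fixed by `C ↦ C ^ κ` agree;
* `exists_kappa` : a generator of the units of `ℤ/N` which are `1` modulo `n`;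
* `kap_le_apr`.
-/

set_option autoImplicit false

namespace Cfsg.Agent.H352.S4790

open Cfsg Cfsg.Agent.H697.Alm Cfsg.Agent.Characters

universe u

variable {G : Type u} [Group G]

/-- the power map on classes -/
def powCl (κ : ℕ) : ConjClasses G → ConjClasses G :=
  Quotient.map (fun g => g ^ κ) (fun _ _ h => IsConj.pow κ h)

theorem powCl_mk (κ : ℕ) (g : G) : powCl κ (ConjClasses.mk g) = ConjClasses.mk (g ^ κ) := rfl

variable [Finite G]

theorem exists_inverse {κ : ℕ} (h : Nat.Coprime κ (Nat.card G)) :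
    ∃ κ' : ℕ, ∀ g : G, g ^ (κ * κ') = g := by
  rcases Nat.lt_or_ge 1 (Nat.card G) with h1 | h1
  · obtain ⟨m, hm⟩ := Nat.exists_mul_mod_eq_one_of_coprime h h1
    refine ⟨m, fun g => ?_⟩
    have h2 : κ * m ≡ 1 [MOD Nat.card G] := by
      unfold Nat.ModEq
      rw [hm.2, Nat.mod_eq_of_lt h1]
    have h3 : g ^ (κ * m) = g ^ 1 := pow_eq_pow_iff_modEq.2 (h2.of_dvd (orderOf_dvd_natCard g))
    rw [h3, pow_one]
  · have : Subsingleton G := (Finite.card_le_one_iff_subsingleton).1 h1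
    exact ⟨1, fun g => Subsingleton.elim _ _⟩

/-- **Brauer's permutation lemma for the power map.** -/
theorem card_fixed {κ : ℕ} (hκ : Nat.Coprime κ (Nat.card G)) :
    Nat.card {χ : IrrCharacter G // ∀ g : G, (χ : G → ℂ) (g ^ κ) = (χ : G → ℂ) g} =
      Nat.card {C : ConjClasses G // powCl κ C = C} := by
  classical
  have : Finite (IrrCharacter G) := Core.finite_irr
  have := Fintype.ofFinite (IrrCharacter G)
  have := Fintype.ofFinite G
  have : Fintype (ConjClasses G) := Fintype.ofFinite _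
  obtain ⟨κ', hκ'⟩ := exists_inverse hκ
  let v : IrrCharacter G → (ConjClasses G → ℂ) := fun χ => S0860.onClasses (χ : G → ℂ)
  have hvmk : ∀ (χ : IrrCharacter G) (g : G), v χ (ConjClasses.mk g) = (χ : G → ℂ) g :=
    fun χ g => S0860.onClasses_mk (Core.isIrr_isClassFunction χ.2) g
  have hlin : LinearIndependent ℂ v := by
    have h1 : LinearIndependent ℂ (fun χ : IrrCharacter G => (χ : G → ℂ)) := Core.irr_linearIndependent
    have h2 : (fun χ : IrrCharacter G => (χ : G → ℂ)) =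
        (LinearMap.funLeft ℂ ℂ (ConjClasses.mk : G → ConjClasses G)) ∘ v := by
      funext χ g
      exact (hvmk χ g).symm
    rw [h2] at h1
    exact LinearIndependent.of_comp _ h1
  have hcard : Fintype.card (IrrCharacter G) = Module.finrank ℂ (ConjClasses G → ℂ) := by
    rw [Module.finrank_fintype_fun_eq_card, ← Nat.card_eq_fintype_card,
      ← Nat.card_eq_fintype_card]
    exact Core.card_irr
  have : Nonempty (IrrCharacter G) := ⟨⟨1, Core.isIrr_one⟩⟩
  let b : Module.Basis (IrrCharacter G) ℂ (ConjClasses G → ℂ) :=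
    basisOfLinearIndependentOfCardEqFinrank hlin hcard
  have hb : ∀ χ, b χ = v χ := fun χ => by
    simp only [b, coe_basisOfLinearIndependentOfCardEqFinrank]
  let T : (ConjClasses G → ℂ) →ₗ[ℂ] (ConjClasses G → ℂ) := LinearMap.funLeft ℂ ℂ (powCl κ)
  let s : IrrCharacter G → IrrCharacter G := fun χ => ⟨_, GaloisIrr.isIrr_pow hκ χ.2⟩
  have hT1 : ∀ χ, T (b χ) = b (s χ) := by
    intro χ
    rw [hb, hb]
    funext C
    obtain ⟨g, rfl⟩ := ConjClasses.mk_surjective C
    show v χ (powCl κ (ConjClasses.mk g)) = v (s χ) (ConjClasses.mk g)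
    rw [powCl_mk, hvmk, hvmk]
  have hinv : ∀ C D : ConjClasses G, powCl κ D = C ↔ D = powCl κ' C := by
    intro C D
    obtain ⟨g, rfl⟩ := ConjClasses.mk_surjective C
    obtain ⟨h, rfl⟩ := ConjClasses.mk_surjective D
    rw [powCl_mk, powCl_mk]
    constructor
    · intro h1
      have h2 := congrArg (powCl κ') h1
      rw [powCl_mk, powCl_mk, ← pow_mul, hκ'] at h2
      exact h2
    · intro h1
      have h2 := congrArg (powCl κ) h1
      rw [powCl_mk, powCl_mk, ← pow_mul, mul_comm κ' κ, hκ'] at h2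
      exact h2
  have hT2 : ∀ C, T (Pi.basisFun ℂ (ConjClasses G) C) = Pi.basisFun ℂ (ConjClasses G) (powCl κ' C) := by
    intro C
    funext D
    show (Pi.basisFun ℂ (ConjClasses G) C) (powCl κ D) = _
    rw [Pi.basisFun_apply, Pi.basisFun_apply, Pi.single_apply, Pi.single_apply]
    simp only [hinv]
  have e1 := S0860.trace_of_perm b T s hT1
  have e2 := S0860.trace_of_perm (Pi.basisFun ℂ (ConjClasses G)) T (powCl κ') hT2
  rw [e1] at e2
  have e3 : Nat.card {χ : IrrCharacter G // s χ = χ} = Nat.card {C : ConjClasses G // powCl κ' C = C} := by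
    exact_mod_cast e2
  have e4 : Nat.card {χ : IrrCharacter G // ∀ g : G, (χ : G → ℂ) (g ^ κ) = (χ : G → ℂ) g} =
      Nat.card {χ : IrrCharacter G // s χ = χ} := by
    refine Nat.card_congr (Equiv.subtypeEquivRight fun χ => ?_)
    constructor
    · intro h
      exact Subtype.ext (funext h)
    · intro h g
      exact congrArg (fun ψ : IrrCharacter G => (ψ : G → ℂ) g) h
  have e5 : Nat.card {C : ConjClasses G // powCl κ' C = C} = Nat.card {C : ConjClasses G // powCl κ C = C} := by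
    refine Nat.card_congr (Equiv.subtypeEquivRight fun C => ?_)
    rw [hinv]
    exact eq_comm
  rw [e4, e3, e5]

omit [Finite G] in
/-- a generator of the units of `ℤ/N` which are `1` modulo `n` -/
theorem exists_kappa {p N : ℕ} (hp : p.Prime) (hp2 : p ≠ 2) (hN : N ≠ 0) :
    ∃ n κ : ℕ, n ∣ N ∧ ¬ p ^ 2 ∣ n ∧ (∀ d : ℕ, d ∣ N → ¬ p ^ 2 ∣ d → d ∣ n) ∧ Nat.Coprime κ N ∧ κ ≡ 1 [MOD n] ∧
      ∀ k : ℕ, Nat.Coprime k N → k ≡ 1 [MOD n] → ∃ j : ℕ, k ≡ κ ^ j [MOD N] := by
  obtain ⟨a, m, hm, rfl⟩ := Nat.exists_eq_pow_mul_and_not_dvd hN p hp.ne_one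
  rcases Nat.eq_zero_or_pos a with rfl | ha
  · refine ⟨m, 1, ?_, ?_, ?_, Nat.coprime_one_left _, Nat.ModEq.refl _, fun k _ hk => ⟨0, ?_⟩⟩
    · simp
    · intro h
      exact hm ((dvd_pow_self p two_ne_zero).trans h)
    · intro d hd _
      simpa using hd
    · simpa using hk
  have : Fact p.Prime := ⟨hp⟩
  have hcop : (p ^ a).Coprime m := Nat.Coprime.pow_left _ ((Nat.Prime.coprime_iff_not_dvd hp).2 hm)
  have hcop1 : p.Coprime m := (Nat.Prime.coprime_iff_not_dvd hp).2 hm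
  have hpa : p ∣ p ^ a := dvd_pow_self p ha.ne'
  have : NeZero (p ^ a) := ⟨pow_ne_zero _ hp.ne_zero⟩
  have hcyc : IsCyclic (ZMod (p ^ a))ˣ := ZMod.isCyclic_units_of_prime_pow p hp hp2 a
  let H : Subgroup (ZMod (p ^ a))ˣ := (ZMod.unitsMap hpa).ker
  obtain ⟨u, hu⟩ := IsCyclic.exists_monoid_generator (α := H)
  obtain ⟨κ, hκ1, hκ2⟩ := Nat.chineseRemainder hcop ((u : (ZMod (p ^ a))ˣ) : ZMod (p ^ a)).val 1
  have hκu : ((κ : ℕ) : ZMod (p ^ a)) = ((u : (ZMod (p ^ a))ˣ) : ZMod (p ^ a)) := by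
    rw [(ZMod.natCast_eq_natCast_iff _ _ _).2 hκ1, ZMod.natCast_val, ZMod.cast_id]
  have hker : ∀ (v : (ZMod (p ^ a))ˣ) (k : ℕ), ((k : ℕ) : ZMod (p ^ a)) = (v : ZMod (p ^ a)) →
      (v ∈ H ↔ k ≡ 1 [MOD p]) := by
    intro v k hk
    rw [MonoidHom.mem_ker, Units.ext_iff, ZMod.unitsMap_val, ← hk, ZMod.cast_natCast hpa, Units.val_one,
      ← Nat.cast_one, ZMod.natCast_eq_natCast_iff]
  refine ⟨p * m, κ, Nat.mul_dvd_mul_right hpa m, ?_, ?_, ?_, ?_, fun k hk hk1 => ?_⟩
  · intro h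
    rw [pow_two] at h
    exact hm (Nat.dvd_of_mul_dvd_mul_left hp.pos h)
  · intro d hd hd2
    obtain ⟨i, d', hd', rfl⟩ := Nat.exists_eq_pow_mul_and_not_dvd (n := d) (by
      rintro rfl
      exact hd2 (dvd_zero _)) p hp.ne_one
    have hi : i < 2 := by
      by_contra hcon
      exact hd2 ((pow_dvd_pow p (by omega)).trans (dvd_mul_right _ _))
    have h1 : d' ∣ m := by
      have h2 : d' ∣ p ^ a * m := (dvd_mul_left _ _).trans hd
      exact (Nat.Coprime.pow_right a ((Nat.Prime.coprime_iff_not_dvd hp).2 hd').symm).dvd_of_dvd_mul_left h2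
    refine Nat.mul_dvd_mul ?_ h1
    have h3 : p ^ i ∣ p ^ 1 := pow_dvd_pow p (by omega)
    rwa [pow_one] at h3
  · refine Nat.Coprime.mul_right ?_ ?_
    · have h1 := hκ1.gcd_eq
      unfold Nat.Coprime
      rw [h1]
      exact ZMod.val_coe_unit_coprime _
    · have h1 := hκ2.gcd_eq
      unfold Nat.Coprime
      rw [h1, Nat.gcd_one_left]
  · refine (Nat.modEq_and_modEq_iff_modEq_mul hcop1).1 ⟨?_, hκ2⟩
    exact (hker u κ hκu).1 u.2
  · have hkp : Nat.Coprime k (p ^ a) := Nat.Coprime.coprime_dvd_right (dvd_mul_right _ _) hk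
    have hmem : ZMod.unitOfCoprime k hkp ∈ H :=
      (hker _ k (ZMod.coe_unitOfCoprime k hkp).symm).2 (hk1.of_dvd (dvd_mul_right _ _))
    obtain ⟨j, hj⟩ := hu ⟨_, hmem⟩
    refine ⟨j, (Nat.modEq_and_modEq_iff_modEq_mul hcop).1 ⟨?_, ?_⟩⟩
    · rw [← ZMod.natCast_eq_natCast_iff]
      have h1 := congrArg (fun v : H => ((v : (ZMod (p ^ a))ˣ) : ZMod (p ^ a))) hj
      simp only [SubmonoidClass.coe_pow, Units.val_pow_eq_pow_val, ZMod.coe_unitOfCoprime] at h1
      rw [← h1, Nat.cast_pow, hκu]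
    · have h1 := hκ2.pow j
      rw [one_pow] at h1
      exact (hk1.of_dvd (dvd_mul_left _ _)).trans h1.symm

/-- the values of a fixed character -/
theorem almRat_of_fixed {n κ : ℕ} (hn : n ∣ Nat.card G)
    (h : ∀ k : ℕ, Nat.Coprime k (Nat.card G) → k ≡ 1 [MOD n] → ∃ j : ℕ, k ≡ κ ^ j [MOD Nat.card G])
    {χ : G → ℂ} (hχ : IsIrrCharacter G χ) (hfix : ∀ g : G, χ (g ^ κ) = χ g) (g : G) :
    χ g ∈ IntermediateField.adjoin ℚ ({Complex.exp (2 * Real.pi * Complex.I / n)} : Set ℂ) := by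
  have hN0 : Nat.card G ≠ 0 := Nat.card_pos.ne'
  have hn0 : n ≠ 0 := by
    rintro rfl
    exact hN0 (zero_dvd_iff.1 hn)
  have hc := Core.isIrr_isCharacter hχ
  have hgN : g ^ Nat.card G = 1 := pow_card_eq_one'
  refine H700.PRat.mem_adjoin_of_forall ?_ fun σ hσ => ?_
  · obtain ⟨d, μ, -, h1, h2⟩ := GaloisBasic.isCharacter_exists_fin_pow hc g hN0 hgN
    have h3 := h2 1
    rw [pow_one] at h3
    rw [h3]
    refine IsIntegral.sum _ fun i _ => ?_
    refine IsIntegral.of_pow (Nat.card_pos (α := G)) ?_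
    rw [pow_one, h1]
    exact isIntegral_one
  · obtain ⟨k, hk, hk'⟩ := GaloisBasic.exists_coprime_pow (σ : ℂ →+* ℂ) hN0
    have hζ := Complex.isPrimitiveRoot_exp n hn0
    have h1 : Complex.exp (2 * Real.pi * Complex.I / n) ^ k = Complex.exp (2 * Real.pi * Complex.I / n) := by
      obtain ⟨c, hc⟩ := hn
      have h2 := hk' (Complex.exp (2 * Real.pi * Complex.I / n)) (by rw [hc, pow_mul, hζ.pow_eq_one, one_pow])
      rw [← h2]
      exact hσ
    have h2 : k ≡ 1 [MOD n] := by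
      have h3 : Complex.exp (2 * Real.pi * Complex.I / n) ^ k = Complex.exp (2 * Real.pi * Complex.I / n) ^ 1 := by
        rw [h1, pow_one]
      rw [pow_eq_pow_mod k hζ.pow_eq_one, pow_eq_pow_mod 1 hζ.pow_eq_one] at h3
      exact hζ.pow_inj (Nat.mod_lt _ (Nat.pos_of_ne_zero hn0)) (Nat.mod_lt _ (Nat.pos_of_ne_zero hn0)) h3
    obtain ⟨j, hj⟩ := h k hk h2
    have h5 := GaloisBasic.map_apply (σ : ℂ →+* ℂ) hk' hc hN0 hgN
    have h6 : g ^ k = g ^ κ ^ j := pow_eq_pow_iff_modEq.2 (hj.of_dvd (orderOf_dvd_natCard g))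
    have h7 : ∀ j : ℕ, ∀ g : G, χ (g ^ κ ^ j) = χ g := by
      intro j
      induction j with
      | zero => intro g; rw [pow_zero, pow_one]
      | succ j ih =>
        intro g
        rw [pow_succ, pow_mul, hfix, ih]
    rw [h6, h7] at h5
    exact h5

/-- **T17** -/
theorem kap_le_apr {p : ℕ} (hp : p.Prime) (hp2 : p ≠ 2) : kap p G ≤ apr p G := by
  have : Finite (IrrCharacter G) := Core.finite_irr
  have : Finite (ConjClasses G) := inferInstance
  obtain ⟨n, κ, hn, hn2, hd, hκ, hκ1, hk⟩ := exists_kappa (N := Nat.card G) hp hp2 Nat.card_pos.ne'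
  have hn0 : 0 < n := Nat.pos_of_dvd_of_pos hn Nat.card_pos
  have h1 : kap p G ≤ Nat.card {C : ConjClasses G // powCl κ C = C} := by
    unfold kap
    refine Nat.card_le_card_of_injective (fun c => ⟨c.1, ?_⟩) ?_
    · obtain ⟨g, hg, hg2⟩ := c.2
      rw [← hg, powCl_mk]
      have h2 : g ^ κ = g ^ 1 :=
        pow_eq_pow_iff_modEq.2 (hκ1.of_dvd (hd _ (orderOf_dvd_natCard g) hg2))
      rw [h2, pow_one]
    · intro c c' h
      apply Subtype.ext
      exact congrArg (fun z : {C : ConjClasses G // powCl κ C = C} => z.1) h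
  refine h1.trans ?_
  rw [← card_fixed hκ]
  unfold apr
  refine Nat.card_le_card_of_injective (fun χ => ⟨χ.1, n, hn0, hn2, fun g =>
    almRat_of_fixed hn hk χ.1.2 χ.2 g⟩) ?_
  intro χ χ' h
  apply Subtype.ext
  exact congrArg (fun z : {χ : IrrCharacter G // AlmRat p (χ : G → ℂ)} => z.1) h

end Cfsg.Agent.H352.S4790
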